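import Cfsg.Agent.Lib.M24Affine.Checks
import Mathlib.LinearAlgebra.Matrix.SpecialLinearGroup
import Mathlib.LinearAlgebra.Matrix.Transvection

/-!
# The centraliser of an octad involution of M24 as a transvection centraliser
-/

set_option autoImplicit false

namespace Cfsg.Agent.Lib.M24Affine

open Matrix Cfsg Cfsg.Agent.Lib.Computation Cfsg.Agent.Lib.Golay Cfsg.Agent.Lib.M24Classes Cfsg.Agent.Lib.M24Classes.Centralizers

attribute [local irreducible] Data.orbA Data.stabA

/-- A bit vector over the field with two elements. -/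
def vec (v : ℕ) : Fin 5 → ZMod 2 := fun i => bif v.testBit i then 1 else 0

/-- The matrix with given columns. -/
def matOf (c : List ℕ) : Matrix (Fin 5) (Fin 5) (ZMod 2) := Matrix.of fun i k => vec (c.getD k 0) i

/-- The code of a vector. -/
def code (f : Fin 5 → ZMod 2) : ℕ :=
  (f 0).val + 2 * (f 1).val + 4 * (f 2).val + 8 * (f 3).val + 16 * (f 4).val

theorem code_spec : ∀ f : Fin 5 → ZMod 2, vec (code f) = f ∧ code f < 32 ∧
    (f 1 = 0 → code f ∈ offs) ∧ (f 1 = 1 → code f ^^^ 2 ∈ offs) := by decide +kernel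

theorem vec_inj : ∀ a : Fin 32, ∀ b : Fin 32, vec a = vec b → a = b := by decide +kernel

theorem vec_xor (a b : ℕ) : vec (a ^^^ b) = vec a + vec b := by
  funext i
  simp only [vec, Pi.add_apply, Nat.testBit_xor]
  cases a.testBit i <;> cases b.testBit i <;> simp <;> decide

theorem mv_spec (c : List ℕ) (v : ℕ) : vec (mv c v) = matOf c *ᵥ vec v := by
  have hp : ∀ k, vec (pick c v k) = fun i => (bif v.testBit k then (1 : ZMod 2) else 0) *
      vec (c.getD k 0) i := by
    intro k
    funext i
    unfold pick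
    cases v.testBit k <;> simp [vec]
  funext i
  simp only [mv, vec_xor, hp, Pi.add_apply, Matrix.mulVec, dotProduct, Fin.sum_univ_five, matOf,
    Matrix.of_apply]
  simp only [vec, Fin.val_zero, Fin.val_one, Fin.val_two]
  rw [show ((3 : Fin 5) : ℕ) = 3 from rfl, show ((4 : Fin 5) : ℕ) = 4 from rfl]
  ring

/-- `g` acts on the sixteen labelled points as the matrix `M`. -/
def IsAff (g : Equiv.Perm GolayPt) (M : Matrix (Fin 5) (Fin 5) (ZMod 2)) : Prop :=
  ∀ p : GolayPt, (lab (idx p) = 0 ↔ lab (idx (g p)) = 0) ∧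
    (lab (idx p) ≠ 0 → vec (lab (idx (g p))) = M *ᵥ vec (lab (idx p)))

theorem IsAff.one : IsAff 1 1 := fun p => ⟨Iff.rfl, fun _ => by simp⟩

theorem IsAff.mul {g h : Equiv.Perm GolayPt} {M N : Matrix (Fin 5) (Fin 5) (ZMod 2)}
    (hg : IsAff g M) (hh : IsAff h N) : IsAff (g * h) (M * N) := fun p =>
  ⟨(hh p).1.trans (hg (h p)).1, fun hp => by
    rw [Equiv.Perm.mul_apply, (hg (h p)).2 (fun h0 => hp ((hh p).1.2 h0)), (hh p).2 hp,
      Matrix.mulVec_mulVec]⟩

theorem IsAff.unique {g : Equiv.Perm GolayPt} {M N : Matrix (Fin 5) (Fin 5) (ZMod 2)}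
    (hM : IsAff g M) (hN : IsAff g N) : M = N := by
  have key : ∀ v ∈ [2, 3, 6, 10, 18], M *ᵥ vec v = N *ᵥ vec v := by
    intro v hv
    obtain ⟨h1, h2, h3⟩ : unlab v < 24 ∧ lab (unlab v) = v ∧ v ≠ 0 := by
      revert v
      decide +kernel
    have e : lab (idx (pt (unlab v))) = v := by rw [idx_pt h1, h2]
    rw [← e, ← (hM (pt (unlab v))).2 (by rw [e]; exact h3),
      ← (hN (pt (unlab v))).2 (by rw [e]; exact h3)]
  have k2 := key 2 (by simp)
  have hxor : ∀ v ∈ [3, 6, 10, 18], M *ᵥ vec (v ^^^ 2) = N *ᵥ vec (v ^^^ 2) := fun v hv => by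
    rw [vec_xor, Matrix.mulVec_add, Matrix.mulVec_add, k2, key v (List.mem_cons_of_mem _ hv)]
  have hsingle : ∀ k : Fin 5, vec (2 ^ k.1) = Pi.single k 1 := by decide +kernel
  refine Matrix.ext fun i k => ?_
  have hk : M *ᵥ Pi.single k 1 = N *ᵥ Pi.single k 1 := by
    rw [← hsingle]
    fin_cases k
    · exact hxor 3 (by simp)
    · exact k2
    · exact hxor 6 (by simp)
    · exact hxor 10 (by simp)
    · exact hxor 18 (by simp)
  simpa [Matrix.mulVec_single] using congrFun hk i

theorem isAff_of_ok {c : ℕ} (hc : okCode c = true) (h : affOk c = true) :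
    IsAff (gperm c) (matOf (colsOf c)) := by
  intro p
  simp only [affOk, Bool.and_eq_true, List.all_eq_true, List.mem_range] at h
  have hp := h.2 (idx p) (idx_lt p)
  rw [← idx_gperm hc] at hp
  simp only [Bool.or_eq_true, Nat.beq_eq, beq_iff_eq] at hp
  refine ⟨?_, fun hp0 => by rw [← mv_spec, (hp.2.resolve_left hp0)]⟩
  have := hp.1
  rw [Bool.eq_iff_iff, Nat.beq_eq, Nat.beq_eq] at this
  exact this

theorem okA_parts : (∀ a ∈ Data.orbA, inM24 a = true) ∧ ∀ b ∈ Data.stabA, inM24 b = true := by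
  refine ⟨List.all_eq_true.1 (by decide +kernel : (Data.orbA.all inM24) = true),
    List.all_eq_true.1 (by decide +kernel : (Data.stabA.all inM24) = true)⟩

theorem exists_isAff {g : Equiv.Perm GolayPt} (hg : g ∈ cent (gperm Data.rA)) :
    ∃ M, IsAff g M := by
  obtain ⟨a, ha, b, hb, rfl⟩ := product2 okA hg
  exact ⟨_, (isAff_of_ok (okCode_of_inM24 (okA_parts.1 a ha)) (List.all_eq_true.1 orb_ok a ha)).mul
    (isAff_of_ok (okCode_of_inM24 (okA_parts.2 b hb)) (List.all_eq_true.1 stab_ok b hb))⟩

/-- The matrix of an element of the centraliser. -/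
noncomputable def mat (g : cent (gperm Data.rA)) : Matrix (Fin 5) (Fin 5) (ZMod 2) :=
  (exists_isAff g.2).choose

theorem mat_spec (g : cent (gperm Data.rA)) : IsAff (g : Equiv.Perm GolayPt) (mat g) :=
  (exists_isAff g.2).choose_spec

theorem mat_one : mat 1 = 1 := (mat_spec 1).unique IsAff.one

theorem mat_mul (g h : cent (gperm Data.rA)) : mat (g * h) = mat g * mat h :=
  (mat_spec (g * h)).unique ((mat_spec g).mul (mat_spec h))

theorem det_mat (g : cent (gperm Data.rA)) : (mat g).det = 1 := by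
  have h : (mat g).det * (mat g⁻¹).det = 1 := by
    rw [← Matrix.det_mul, ← mat_mul, mul_inv_cancel, mat_one, Matrix.det_one]
  have : ∀ x y : ZMod 2, x * y = 1 → x = 1 := by decide
  exact this _ _ h

/-- The homomorphism to `SL 5 2`. -/
noncomputable def toSL : cent (gperm Data.rA) →* Matrix.SpecialLinearGroup (Fin 5) (ZMod 2) where
  toFun g := ⟨mat g, det_mat g⟩
  map_one' := Subtype.ext mat_one
  map_mul' g h := Subtype.ext (mat_mul g h)

theorem toSL_injective : Function.Injective toSL := by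
  rw [injective_iff_map_eq_one]
  intro g hg
  have hM : mat g = 1 := congrArg Subtype.val hg
  have hlab : ∀ p ∈ setOfMask baseMask, lab (idx p) ≠ 0 := by decide +kernel
  have hinj : ∀ p q : GolayPt, lab (idx p) ≠ 0 → lab (idx p) = lab (idx q) → p = q := by decide +kernel
  have hlt : ∀ p : GolayPt, lab (idx p) < 32 := by decide +kernel
  have hfix : ∀ p, lab (idx p) ≠ 0 → (g : Equiv.Perm GolayPt) p = p := by
    intro p hp
    have h1 := (mat_spec g p).2 hp
    rw [hM, Matrix.one_mulVec] at h1
    exact (hinj p _ hp (congrArg Fin.val (vec_inj ⟨_, hlt _⟩ ⟨_, hlt _⟩ h1)).symm).symm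
  apply Subtype.ext
  have hbase : (∀ i, baseFive i ∈ setOfMask baseMask) ∧ basePt6 ∈ setOfMask baseMask ∧
      basePt7 ∈ setOfMask baseMask := by decide +kernel
  exact eq_one_of_base g.2.1 (fun i => hfix _ (hlab _ (hbase.1 i))) (hfix _ (hlab _ hbase.2.1))
    (hfix _ (hlab _ hbase.2.2))

theorem matOf_s : matOf [1, 3, 4, 8, 16] = Matrix.transvection 0 1 1 := by decide +kernel

theorem rA_mem : gperm Data.rA ∈ cent (gperm Data.rA) :=
  mem_cent.2 ⟨gperm_mem_M24 rA_inM24, rfl⟩

theorem mat_rA : mat ⟨_, rA_mem⟩ = Matrix.transvection 0 1 1 := by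
  have h := rA_ok
  rw [Bool.and_eq_true, beq_iff_eq] at h
  rw [← matOf_s, ← h.2]
  exact (mat_spec ⟨_, rA_mem⟩).unique (isAff_of_ok (okCode_of_inM24 rA_inM24) h.1)

/-- The admissible columns of an element of the transvection centraliser. -/
def targets : Finset (ℕ × ℕ × ℕ × ℕ) :=
  offs.toFinset ×ˢ ((List.product offs (List.product offs offs)).filter
    fun t => indepOk t.1 t.2.1 t.2.2).toFinset

theorem card_targets : targets.card ≤ 21504 := by
  rw [targets, Finset.card_product]
  refine (Nat.mul_le_mul (List.toFinset_card_le _) (List.toFinset_card_le _)).trans ?_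
  rw [← List.countP_eq_length_filter, show List.countP _ _ = tripleCount from rfl, tripleCount_eq]
  rfl

theorem card_centralizer_le (s : Matrix.SpecialLinearGroup (Fin 5) (ZMod 2))
    (hs : (s : Matrix (Fin 5) (Fin 5) (ZMod 2)) = Matrix.transvection 0 1 1) :
    Nat.card (Subgroup.centralizer ({s} : Set (Matrix.SpecialLinearGroup (Fin 5) (ZMod 2)))) ≤ 21504 := by
  classical
  set C := Subgroup.centralizer ({s} : Set (Matrix.SpecialLinearGroup (Fin 5) (ZMod 2)))
  have hrel : ∀ M : C, (∀ j, j ≠ 1 → M.1.1 1 j = 0) ∧ M.1.1 1 1 = 1 ∧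
      (fun i => M.1.1 i 0) = Pi.single 0 1 := by
    rintro ⟨g, hM⟩
    have h : g.1 * Matrix.transvection 0 1 1 = Matrix.transvection 0 1 1 * g.1 := by
      rw [← hs]
      have h2 : g * s = s * g := Subgroup.mem_centralizer_singleton_iff.1 hM
      exact congrArg Subtype.val h2
    obtain ⟨M, hdet⟩ := g
    simp only [Matrix.transvection, mul_add, add_mul, mul_one, one_mul, add_right_inj] at h
    have hrow : ∀ j, j ≠ 1 → M 1 j = 0 := fun j hj => by
      have := congrFun (congrFun h 0) j
      simpa [hj] using this.symm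
    have hcol : ∀ i, i ≠ 0 → M i 0 = 0 := fun i hi => by
      have := congrFun (congrFun h i) 1
      simpa [hi] using this
    have h01 : M 0 0 = M 1 1 := by
      simpa using congrFun (congrFun h 0) 1
    have h00 : M 0 0 = 1 := by
      have : M 0 0 ≠ 0 := fun h0 => by
        have hz : M.det = 0 := Matrix.det_eq_zero_of_column_eq_zero 0 fun i => by
          rcases eq_or_ne i 0 with rfl | hi
          · exact h0
          · exact hcol i hi
        rw [hdet] at hz
        exact one_ne_zero hz
      have hd : ∀ x : ZMod 2, x ≠ 0 → x = 1 := by decide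
      exact hd _ this
    refine ⟨hrow, h01.symm.trans h00, funext fun i => ?_⟩
    rcases eq_or_ne i 0 with rfl | hi
    · simpa using h00
    · simp [hi, hcol i hi]
  let c : C → Fin 5 → ℕ := fun M k => code fun i => M.1.1 i k
  have hmem : ∀ M : C, (c M 1 ^^^ 2, c M 2, c M 3, c M 4) ∈ targets := by
    intro M
    obtain ⟨hrow, h11, hcol⟩ := hrel M
    have hm : ∀ k : Fin 5, k ≠ 1 → c M k ∈ offs := fun k hk => (code_spec _).2.2.1 (hrow k hk)
    refine Finset.mem_product.2 ⟨List.mem_toFinset.2 ((code_spec _).2.2.2 h11),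
      List.mem_toFinset.2 (List.mem_filter.2 ⟨List.mem_product.2 ⟨hm 2 (by decide),
        List.mem_product.2 ⟨hm 3 (by decide), hm 4 (by decide)⟩⟩, ?_⟩)⟩
    have hmat : ∀ w ∈ [4, 8, 12, 16, 20, 24, 28],
        vec (mv [1, 0, c M 2, c M 3, c M 4] w) = M.1.1 *ᵥ vec w := by
      intro w hw
      rw [mv_spec]
      have hw1 : vec w 0 = 0 ∧ vec w 1 = 0 := by
        revert w
        decide +kernel
      funext i
      have e2 : vec (c M 2) = fun i => M.1.1 i 2 := (code_spec _).1
      have e3 : vec (c M 3) = fun i => M.1.1 i 3 := (code_spec _).1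
      have e4 : vec (c M 4) = fun i => M.1.1 i 4 := (code_spec _).1
      simp only [Matrix.mulVec, dotProduct, Fin.sum_univ_five, hw1.1, hw1.2, mul_zero, matOf,
        Matrix.of_apply, show ((2 : Fin 5) : ℕ) = 2 from rfl, show ((3 : Fin 5) : ℕ) = 3 from rfl,
        show ((4 : Fin 5) : ℕ) = 4 from rfl, List.getD_cons_succ, List.getD_cons_zero, e2, e3, e4]
    have hinj : ∀ u v : Fin 5 → ZMod 2, M.1.1 *ᵥ u = M.1.1 *ᵥ v → u = v := fun u v h =>
      Matrix.mulVec_injective_of_isUnit ((Matrix.isUnit_iff_isUnit_det _).2 (by rw [M.1.2]; exact isUnit_one)) h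
    simp only [indepOk, List.all_eq_true, Bool.and_eq_true, Bool.not_eq_true', ← Bool.not_eq_true,
      Nat.beq_eq]
    intro w hw
    have hne : vec w ≠ vec 0 ∧ vec w ≠ vec 1 := by
      revert w
      decide +kernel
    have hz : vec 0 = 0 := by decide +kernel
    have h1 : vec 1 = Pi.single 0 1 := by decide +kernel
    refine ⟨fun h => hne.1 (hinj _ _ ?_), fun h => hne.2 (hinj _ _ ?_)⟩
    · rw [← hmat w hw, h, hz, Matrix.mulVec_zero]
    · rw [← hmat w hw, h, h1, Matrix.mulVec_single_one]
      exact hcol.symm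
  let f : C → targets := fun M => ⟨_, hmem M⟩
  have hf : Function.Injective f := by
    intro M N h
    simp only [f, Subtype.mk.injEq, Prod.mk.injEq] at h
    obtain ⟨h1, h2, h3, h4⟩ := h
    refine Subtype.ext (Subtype.ext (Matrix.ext fun i k => ?_))
    suffices hk : (fun i => M.1.1 i k) = fun i => N.1.1 i k from congrFun hk i
    have hc : ∀ k, c M k = c N k → (fun i => M.1.1 i k) = fun i => N.1.1 i k := fun k hk => by
      rw [← (code_spec fun i => M.1.1 i k).1, ← (code_spec fun i => N.1.1 i k).1]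
      exact congrArg vec hk
    fin_cases k
    · exact (hrel M).2.2.trans (hrel N).2.2.symm
    · exact hc 1 (Nat.xor_left_injective h1)
    · exact hc 2 h2
    · exact hc 3 h3
    · exact hc 4 h4
  refine (Nat.card_le_card_of_injective f hf).trans ?_
  rw [Nat.card_eq_fintype_card, Fintype.card_coe]
  exact card_targets

/-- The centraliser of the involution is the transvection centraliser. -/
theorem exists_iso (s : Matrix.SpecialLinearGroup (Fin 5) (ZMod 2))
    (hs : (s : Matrix (Fin 5) (Fin 5) (ZMod 2)) = Matrix.transvection 0 1 1) :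
    ∃ z : M24, orderOf z = 2 ∧ Nonempty (↥(Subgroup.centralizer ({z} : Set M24)) ≃*
      ↥(Subgroup.centralizer ({s} : Set (Matrix.SpecialLinearGroup (Fin 5) (ZMod 2))))) := by
  classical
  refine ⟨⟨gperm Data.rA, rA_mem.1⟩, ?_, ?_⟩
  · have h := rA_sq
    rw [Bool.and_eq_true, Nat.beq_eq] at h
    rw [← Subgroup.orderOf_coe]
    have hok := okCode_of_inM24 rA_inM24
    refine orderOf_eq_prime ?_ fun h1 => ?_
    · rw [pow_two, ← gperm_mul hok hok, h.1, gperm_oneCode]
    · have h2 := idx_gperm hok (pt 0)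
      rw [show gperm Data.rA = 1 from h1, Equiv.Perm.one_apply, idx_pt (by norm_num)] at h2
      exact absurd h2 (by decide +kernel)
  · let e : ↥(Subgroup.centralizer ({(⟨gperm Data.rA, rA_mem.1⟩ : M24)} : Set M24)) ≃*
        cent (gperm Data.rA) :=
      { toFun := fun g => ⟨g.1.1, mem_cent.2 ⟨g.1.2,
          congrArg Subtype.val (Subgroup.mem_centralizer_singleton_iff.1 g.2)⟩⟩
        invFun := fun g => ⟨⟨g.1, (mem_cent.1 g.2).1⟩,
          Subgroup.mem_centralizer_singleton_iff.2 (Subtype.ext (mem_cent.1 g.2).2)⟩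
        left_inv := fun g => rfl
        right_inv := fun g => rfl
        map_mul' := fun g h => rfl }
    have hrange : ∀ g, toSL g ∈ Subgroup.centralizer ({s} : Set _) := by
      intro g
      have hz : toSL ⟨_, rA_mem⟩ = s := Subtype.ext (by rw [hs]; exact mat_rA)
      rw [Subgroup.mem_centralizer_singleton_iff, ← hz, ← map_mul, ← map_mul]
      exact congrArg toSL (Subtype.ext (mem_cent.1 g.2).2)
    let f := toSL.codRestrict _ hrange
    have hinj : Function.Injective f := fun a b h => toSL_injective (congrArg Subtype.val h)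
    have hbij : Function.Bijective f := by
      rw [Nat.bijective_iff_injective_and_card]
      exact ⟨hinj, le_antisymm (Nat.card_le_card_of_injective f hinj)
        ((card_centralizer_le s hs).trans card_centA.ge)⟩
    exact ⟨e.trans (MulEquiv.ofBijective f hbij)⟩

end Cfsg.Agent.Lib.M24Affine
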