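import Cfsg.Agent.Lib.M24Classes.Centralizers

/-!
# Affine coordinates for the centraliser of an involution of M24 with eight fixed points
-/

set_option autoImplicit false

namespace Cfsg.Agent.Lib.M24Affine

open Cfsg.Agent.Lib.Computation Cfsg.Agent.Lib.Golay Cfsg.Agent.Lib.M24Classes

/-- Homogeneous affine coordinates of the sixteen moved points as bit vectors (zero on the octad). -/
def lab (i : ℕ) : ℕ :=
  [2, 6, 7, 11, 31, 10, 0, 0, 18, 0, 0, 19, 23, 30, 14, 0, 26, 15, 22, 0, 0, 0, 27, 3].getD i 0

/-- The point with given coordinates. -/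
def unlab (v : ℕ) : ℕ :=
  [2, 6, 7, 11, 31, 10, 0, 0, 18, 0, 0, 19, 23, 30, 14, 0, 26, 15, 22, 0, 0, 0, 27, 3].idxOf v

/-- Column `k` times bit `k`. -/
def pick (c : List ℕ) (v k : ℕ) : ℕ := bif v.testBit k then c.getD k 0 else 0

/-- The product of a bit matrix, given by columns, with a bit vector. -/
def mv (c : List ℕ) (v : ℕ) : ℕ :=
  pick c v 0 ^^^ pick c v 1 ^^^ pick c v 2 ^^^ pick c v 3 ^^^ pick c v 4

/-- The image in coordinates of the point with coordinates `v`. -/
def img (g v : ℕ) : ℕ := lab (getW 5 g (unlab v))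

/-- The columns of the affine map induced by a code. -/
def colsOf (g : ℕ) : List ℕ :=
  [img g 3 ^^^ img g 2, img g 2, img g 6 ^^^ img g 2, img g 10 ^^^ img g 2, img g 18 ^^^ img g 2]

/-- A code acts affinely in the coordinates. -/
def affOk (g : ℕ) : Bool :=
  let c := colsOf g
  (c.all fun x => Nat.blt x 32) &&
    (List.range 24).all fun i =>
      Nat.beq (lab i) 0 == Nat.beq (lab (getW 5 g i)) 0 &&
        (Nat.beq (lab i) 0 || Nat.beq (mv c (lab i)) (lab (getW 5 g i)))

/-- Independence of the last three columns modulo the first. -/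
def indepOk (a b d : ℕ) : Bool :=
  [4, 8, 12, 16, 20, 24, 28].all fun w =>
    !Nat.beq (mv [1, 0, a, b, d] w) 0 && !Nat.beq (mv [1, 0, a, b, d] w) 1

/-- The bit vectors of the last three coordinates and the first one. -/
def offs : List ℕ := [0, 1, 4, 5, 8, 9, 12, 13, 16, 17, 20, 21, 24, 25, 28, 29]

/-- The number of admissible triples of columns. -/
def tripleCount : ℕ :=
  List.countP (fun t => indepOk t.1 t.2.1 t.2.2)
    (List.product offs (List.product offs offs))

theorem orb_ok : (Data.orbA.all affOk) = true := by decide +kernel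

theorem stab_ok : (Data.stabA.all affOk) = true := by decide +kernel

theorem rA_ok : (affOk Data.rA && (colsOf Data.rA == [1, 3, 4, 8, 16])) = true := by decide +kernel

theorem rA_inM24 : inM24 Data.rA = true := by decide +kernel

theorem rA_sq : (Nat.beq (mulP 24 5 Data.rA Data.rA) oneCode && !Nat.beq Data.rA oneCode) = true := by
  decide +kernel

theorem tripleCount_eq : tripleCount = 1344 := by decide +kernel

end Cfsg.Agent.Lib.M24Affine
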